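import Groth.Agent.H8Props.PseudoCoh.TorDim
import Mathlib.RingTheory.RingHom.StandardSmooth
import Mathlib.RingTheory.Smooth.StandardSmoothOfFree
import Mathlib.RingTheory.Smooth.StandardSmoothCotangent
import Mathlib.RingTheory.Unramified.Finite
import Mathlib.RingTheory.Etale.Kaehler
import Mathlib.RingTheory.Flat.Localization
import Mathlib.RingTheory.TensorProduct.MvPolynomial
import Mathlib.Algebra.Polynomial.Basis

/-!
# Flat dimension along a smooth algebra
-/

set_option autoImplicit false
set_option linter.style.haveILetI false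
set_option linter.unusedSectionVars false
universe u

open CategoryTheory CategoryTheory.Limits TensorProduct

namespace Groth.Agent.H8Props.TorHyp

open PseudoCoh

variable {A : Type u} [CommRing A]

theorem hasTorDimLE_retract {n : ℕ} {M M' : Type u} [AddCommGroup M] [Module A M] [AddCommGroup M']
    [Module A M'] (i : M →ₗ[A] M') (r : M' →ₗ[A] M) (h : r ∘ₗ i = LinearMap.id)
    (h' : DRing.HasTorDimLE A n M') : DRing.HasTorDimLE A n M :=
  hasTorDimLE_iff_isZero.mpr fun N p hp => by
    have hid : ((Tor (ModuleCat.{u} A) p).map (ModuleCat.ofHom i)).app N ≫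
        ((Tor (ModuleCat.{u} A) p).map (ModuleCat.ofHom r)).app N = 𝟙 _ := by
      rw [← NatTrans.comp_app, ← CategoryTheory.Functor.map_comp, ← ModuleCat.ofHom_comp, h,
        ModuleCat.ofHom_id, CategoryTheory.Functor.map_id, NatTrans.id_app]
    rw [IsZero.iff_id_eq_zero, ← hid, (hasTorDimLE_iff_isZero.mp h' N p hp).eq_of_tgt
      (((Tor (ModuleCat.{u} A) p).map (ModuleCat.ofHom i)).app N) 0, zero_comp]

section Poly

variable {M : Type u} [AddCommGroup M] [Module (Polynomial A) M] [Module A M]
  [IsScalarTower A (Polynomial A) M]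

/-- The difference of the two actions of the variable. -/
noncomputable def polyDelta : Polynomial A ⊗[A] M →ₗ[Polynomial A] Polynomial A ⊗[A] M :=
  ((TensorProduct.mk A (Polynomial A) M (Polynomial.X)) -
    (TensorProduct.mk A (Polynomial A) M 1).comp
      ((LinearMap.lsmul (Polynomial A) M (Polynomial.X)).restrictScalars A)).liftBaseChange
    (Polynomial A)

theorem polyDelta_tmul (q : Polynomial A) (m : M) :
    polyDelta (q ⊗ₜ[A] m) = (q * Polynomial.X) ⊗ₜ[A] m - q ⊗ₜ[A] ((Polynomial.X : Polynomial A) • m) := by
  simp [polyDelta, smul_sub, TensorProduct.smul_tmul', smul_eq_mul]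

/-- The action map. -/
noncomputable def polyEval : Polynomial A ⊗[A] M →ₗ[Polynomial A] M :=
  (LinearMap.id : M →ₗ[A] M).liftBaseChange (Polynomial A)

theorem polyEval_tmul (q : Polynomial A) (m : M) : polyEval (q ⊗ₜ[A] m) = q • m := rfl

theorem polyDelta_injective : Function.Injective (polyDelta (A := A) (M := M)) := by
  let c : Polynomial A ⊗[A] M →ₗ[A] (ℕ → M) := TensorProduct.lift
    (LinearMap.mk₂ A (fun q m k => q.coeff k • m)
      (fun q q' m => by ext k; simp [add_smul])
      (fun a q m => by ext k; simp [mul_smul])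
      (fun q m m' => by ext k; simp [smul_add])
      (fun a q m => funext fun k => smul_comm _ _ _))
  have hc : ∀ (q : Polynomial A) (m : M) (k : ℕ), c (q ⊗ₜ m) k = q.coeff k • m := fun _ _ _ => rfl
  have hcinj : ∀ z, c z = 0 → z = 0 := by
    intro z hz
    obtain ⟨w, rfl⟩ := (TensorProduct.equivFinsuppOfBasisLeft (Polynomial.basisMonomials A)
      (N := M)).symm.surjective z
    have hw : ∀ k, c ((TensorProduct.equivFinsuppOfBasisLeft (Polynomial.basisMonomials A)
        (N := M)).symm w) k = w k := by
      intro k
      rw [TensorProduct.equivFinsuppOfBasisLeft_symm_apply, Finsupp.sum, map_sum, Finset.sum_apply]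
      simp only [Polynomial.coe_basisMonomials, hc, Polynomial.coeff_monomial, ite_smul, one_smul,
        zero_smul, Finset.sum_ite_eq', Finsupp.mem_support_iff, ne_eq, ite_not]
      split_ifs with h
      · rfl
      · exact (Finsupp.notMem_support_iff.1 h).symm
    have : w = 0 := Finsupp.ext fun k => by
      rw [← hw k, hz]
      rfl
    rw [this, map_zero]
  have hcd : ∀ (z : Polynomial A ⊗[A] M) (k : ℕ),
      c (polyDelta z) (k + 1) = c z k - (Polynomial.X : Polynomial A) • c z (k + 1) := by
    intro z k
    induction z with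
    | zero => simp
    | tmul q m =>
      rw [polyDelta_tmul, map_sub, Pi.sub_apply, hc, hc, hc, hc, Polynomial.coeff_mul_X]
      congr 1
      exact (smul_comm _ _ _).symm
    | add x y hx hy =>
      simp only [map_add, Pi.add_apply, hx, hy, smul_add]
      abel
  rw [injective_iff_map_eq_zero]
  intro z hz
  apply hcinj
  obtain ⟨N, hN⟩ : ∃ N, ∀ k ≥ N, c z k = 0 := by
    clear hz
    induction z with
    | zero => exact ⟨0, fun k _ => by simp⟩
    | tmul q m => exact ⟨q.natDegree + 1, fun k hk => by
        rw [hc, Polynomial.coeff_eq_zero_of_natDegree_lt (by omega), zero_smul]⟩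
    | add x y hx hy =>
      obtain ⟨N, hN⟩ := hx
      obtain ⟨N', hN'⟩ := hy
      exact ⟨N + N', fun k hk => by rw [map_add, Pi.add_apply, hN k (by omega), hN' k (by omega), add_zero]⟩
  have : ∀ (d k : ℕ), N ≤ k + d → c z k = 0 := by
    intro d
    induction d with
    | zero => exact fun k hk => hN k (by omega)
    | succ d ih =>
      intro k hk
      have h := hcd z k
      rw [hz, map_zero, ih (k + 1) (by omega), smul_zero, sub_zero] at h
      exact h.symm
  exact funext fun k => this N k (Nat.le_add_left _ _)

theorem polyDelta_exact : Function.Exact (polyDelta (A := A) (M := M)) polyEval := by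
  intro z
  constructor
  · intro hz
    suffices H : ∀ w, w - (1 : Polynomial A) ⊗ₜ[A] polyEval w ∈
        LinearMap.range (polyDelta (A := A) (M := M)) by
      have h := H z
      rw [hz, TensorProduct.tmul_zero, sub_zero] at h
      exact h
    intro w
    induction w with
    | zero => simp
    | add x y hx hy =>
      rw [map_add, TensorProduct.tmul_add]
      convert! add_mem hx hy using 1
      abel
    | tmul q m =>
      rw [polyEval_tmul]
      induction q using Polynomial.induction_on generalizing m with
      | C a =>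
        have h1 : (Polynomial.C a : Polynomial A) = algebraMap A (Polynomial A) a := rfl
        rw [h1, algebraMap_smul, TensorProduct.tmul_smul, TensorProduct.smul_tmul',
          Algebra.algebraMap_eq_smul_one, sub_self]
        exact zero_mem _
      | add q q' hq hq' =>
        rw [add_smul, TensorProduct.tmul_add, TensorProduct.add_tmul]
        convert! add_mem (hq m) (hq' m) using 1
        abel
      | monomial k a ih =>
        rw [pow_succ, ← mul_assoc]
        have h1 : ((Polynomial.C a * Polynomial.X ^ k * Polynomial.X) ⊗ₜ[A] m -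
            (Polynomial.C a * Polynomial.X ^ k) ⊗ₜ[A] ((Polynomial.X : Polynomial A) • m)) ∈
            LinearMap.range (polyDelta (A := A) (M := M)) := ⟨_, polyDelta_tmul _ _⟩
        have h2 := ih ((Polynomial.X : Polynomial A) • m)
        rw [← mul_smul] at h2
        convert! add_mem h1 h2 using 1
        abel
  · rintro ⟨w, rfl⟩
    induction w with
    | zero => simp
    | add x y hx hy => rw [map_add, map_add, hx, hy, add_zero]
    | tmul q m => rw [polyDelta_tmul, map_sub, polyEval_tmul, polyEval_tmul, mul_smul, sub_self]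

theorem polyEval_surjective : Function.Surjective (polyEval (A := A) (M := M)) :=
  fun m => ⟨1 ⊗ₜ m, by rw [polyEval_tmul, one_smul]⟩

theorem hasTorDimLE_polynomial {m : ℕ} (h : DRing.HasTorDimLE A m M) :
    DRing.HasTorDimLE (Polynomial A) (m + 1) M :=
  hasTorDimLE_quot (polyDelta_injective (A := A) (M := M)) polyEval_surjective polyDelta_exact
    (hasTorDimLE_mono (Nat.le_succ m) (hasTorDimLE_baseChange h)) (hasTorDimLE_baseChange h)

end Poly

/-- Transport along an isomorphism of rings. -/
theorem hasTorDimLE_of_ringEquiv {Q Q' : Type u} [CommRing Q] [CommRing Q'] (e : Q ≃+* Q') {n : ℕ}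
    {M : Type u} [AddCommGroup M] [Module Q M] [Module Q' M] (he : ∀ (q : Q) (x : M), e q • x = q • x)
    (h : DRing.HasTorDimLE Q' n M) : DRing.HasTorDimLE Q n M := by
  letI : Algebra Q Q' := e.toRingHom.toAlgebra
  haveI : Module.Flat Q Q' :=
    RingHom.flat_algebraMap_iff.1 (RingHom.Flat.of_bijective e.bijective)
  haveI : IsScalarTower Q Q' M := IsScalarTower.of_algebraMap_smul fun q x => he q x
  exact hasTorDimLE_restrictScalars h

theorem hasTorDimLE_mvPolynomial : ∀ (k : ℕ) {m : ℕ} {M : Type u} [AddCommGroup M] [Module A M]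
    [Module (MvPolynomial (Fin k) A) M] [IsScalarTower A (MvPolynomial (Fin k) A) M],
    DRing.HasTorDimLE A m M → DRing.HasTorDimLE (MvPolynomial (Fin k) A) (m + k) M
  | 0, m, M, _, _, _, _, h => by
    refine hasTorDimLE_of_ringEquiv (MvPolynomial.isEmptyRingEquiv A (Fin 0)) (fun q x => ?_) h
    conv_rhs => rw [← (MvPolynomial.isEmptyRingEquiv A (Fin 0)).symm_apply_apply q]
    rw [show (MvPolynomial.isEmptyRingEquiv A (Fin 0)).symm
      (MvPolynomial.isEmptyRingEquiv A (Fin 0) q) = algebraMap A (MvPolynomial (Fin 0) A)
        (MvPolynomial.isEmptyRingEquiv A (Fin 0) q) from rfl, algebraMap_smul]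
  | k + 1, m, M, _, _, _, _, h => by
    let e := MvPolynomial.finSuccEquiv A k
    letI : Module (Polynomial (MvPolynomial (Fin k) A)) M :=
      Module.compHom M e.symm.toRingEquiv.toRingHom
    letI : Module (MvPolynomial (Fin k) A) M := Module.compHom M
      (e.symm.toRingEquiv.toRingHom.comp (algebraMap (MvPolynomial (Fin k) A) _))
    haveI : IsScalarTower (MvPolynomial (Fin k) A) (Polynomial (MvPolynomial (Fin k) A)) M :=
      IsScalarTower.of_algebraMap_smul fun _ _ => rfl
    haveI : IsScalarTower A (MvPolynomial (Fin k) A) M := IsScalarTower.of_algebraMap_smul fun a x => by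
      show e.symm (algebraMap (MvPolynomial (Fin k) A) (Polynomial (MvPolynomial (Fin k) A))
        (algebraMap A _ a)) • x = a • x
      rw [← IsScalarTower.algebraMap_apply, AlgEquiv.commutes, algebraMap_smul]
    exact hasTorDimLE_of_ringEquiv e.toRingEquiv (fun q x => by
      show e.symm (e q) • x = q • x
      rw [AlgEquiv.symm_apply_apply]) (hasTorDimLE_polynomial (hasTorDimLE_mvPolynomial k h))

variable {P B : Type u} [CommRing P] [CommRing B] [Algebra P B]

theorem hasTorDimLE_of_etale [Algebra.Etale P B] {n : ℕ} {M : Type u} [AddCommGroup M] [Module B M]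
    [Module P M] [IsScalarTower P B M] (h : DRing.HasTorDimLE P n M) : DRing.HasTorDimLE B n M :=
  hasTorDimLE_retract (Algebra.FormallyUnramified.sec P B M) _
    (Algebra.FormallyUnramified.comp_sec P B M) (hasTorDimLE_baseChange h)

variable [Algebra A B]

theorem hasTorDimLE_of_standardSmooth (n : ℕ) [Algebra.IsStandardSmoothOfRelativeDimension n A B]
    {m : ℕ} {M : Type u} [AddCommGroup M] [Module B M] [Module A M] [IsScalarTower A B M]
    (h : DRing.HasTorDimLE A m M) : DRing.HasTorDimLE B (m + n) M := by
  obtain ⟨g, hg⟩ := Algebra.IsStandardSmoothOfRelativeDimension.exists_etale_mvPolynomial n A B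
  letI : Algebra (MvPolynomial (Fin n) A) B := g.toRingHom.toAlgebra
  haveI : Algebra.Etale (MvPolynomial (Fin n) A) B := hg
  letI : Module (MvPolynomial (Fin n) A) M := Module.compHom M g.toRingHom
  haveI : IsScalarTower (MvPolynomial (Fin n) A) B M := IsScalarTower.of_algebraMap_smul fun _ _ => rfl
  haveI : IsScalarTower A (MvPolynomial (Fin n) A) M := IsScalarTower.of_algebraMap_smul fun a x => by
    show g (algebraMap A _ a) • x = a • x
    rw [AlgHom.commutes, algebraMap_smul]
  exact hasTorDimLE_of_etale (hasTorDimLE_mvPolynomial n h)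

theorem hasTorDimLE_tensor_flat (S : Type u) [CommRing S] [Algebra A S] [Algebra B S]
    [IsScalarTower A B S] [Module.Flat B S] {m : ℕ} {M : Type u} [AddCommGroup M] [Module B M]
    [Module A M] [IsScalarTower A B M] (h : DRing.HasTorDimLE A m M) :
    DRing.HasTorDimLE A m (S ⊗[B] M) := by
  refine hasTorDimLE_iff_isZero.mpr fun N q hq => ?_
  obtain ⟨i, rfl⟩ := Nat.exists_eq_succ_of_ne_zero (by omega : q ≠ 0)
  have h' := (exact_tensor_cancel (B := B) _ _).mp
    ((isZero_tor_iff_exact N i).mp (hasTorDimLE_iff_isZero.mp h N (i + 1) hq))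
  refine (isZero_tor_iff_exact N i).mpr ((exact_tensor_cancel (B := B) _ _).mpr ?_)
  exact lTensor_exact_assoc _ _ (Module.Flat.lTensor_exact S h')
where
  lTensor_exact_assoc {S M X Y Z : Type u} [CommRing S] [Algebra A S] [Algebra B S]
      [IsScalarTower A B S] [AddCommGroup M] [Module B M] [AddCommGroup X] [Module B X]
      [AddCommGroup Y] [Module B Y] [AddCommGroup Z] [Module B Z] (f : X →ₗ[B] Y) (f' : Y →ₗ[B] Z)
      (h : Function.Exact ((f.lTensor M).lTensor S) ((f'.lTensor M).lTensor S)) :
      Function.Exact (f.lTensor (S ⊗[B] M)) (f'.lTensor (S ⊗[B] M)) := by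
    have hc : ∀ {X Y : Type u} [AddCommGroup X] [Module B X] [AddCommGroup Y] [Module B Y]
        (f : X →ₗ[B] Y) (z : (S ⊗[B] M) ⊗[B] X),
        TensorProduct.assoc B S M Y (f.lTensor (S ⊗[B] M) z) =
          (f.lTensor M).lTensor S (TensorProduct.assoc B S M X z) := by
      intro X Y _ _ _ _ f z
      induction z with
      | zero => simp
      | add a b ha hb => simp only [map_add, ha, hb]
      | tmul w x =>
        induction w with
        | zero => simp
        | add a b ha hb => simp only [TensorProduct.add_tmul, map_add, ha, hb]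
        | tmul s m => simp
    intro z
    rw [← (TensorProduct.assoc B S M Z).map_eq_zero_iff, hc, h]
    constructor
    · rintro ⟨w, hw⟩
      obtain ⟨w, rfl⟩ := (TensorProduct.assoc B S M X).surjective w
      rw [← hc] at hw
      exact ⟨w, (TensorProduct.assoc B S M Y).injective hw⟩
    · rintro ⟨w, rfl⟩
      exact ⟨TensorProduct.assoc B S M X w, (hc f w).symm⟩

theorem isStandardSmoothOfRelativeDimension_away [Algebra.Smooth A B] (n : ℕ)
    (hn : ∀ p : PrimeSpectrum B, Module.rankAtStalk (Ω[B⁄A]) p = n) (f : B)
    [Algebra.IsStandardSmooth A (Localization.Away f)] [Nontrivial (Localization.Away f)] :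
    Algebra.IsStandardSmoothOfRelativeDimension n A (Localization.Away f) := by
  rw [Algebra.IsStandardSmoothOfRelativeDimension.iff_of_isStandardSmooth]
  let L := Localization.Away f
  have hbc : IsBaseChange L (KaehlerDifferential.map A A B L) :=
    IsLocalizedModule.isBaseChange (Submonoid.powers f) L _
  obtain ⟨p⟩ := (inferInstance : Nonempty (PrimeSpectrum L))
  haveI : Module.Finite L (Ω[L⁄A]) := Module.Finite.equiv hbc.equiv
  have h1 : Module.rankAtStalk (Ω[L⁄A]) p = n := by
    rw [← Module.rankAtStalk_eq_of_equiv hbc.equiv, Module.rankAtStalk_baseChange, hn]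
  rw [Module.rankAtStalk_eq_finrank_of_free] at h1
  rw [← Module.finrank_eq_rank, show Module.finrank L (Ω[L⁄A]) = n from h1]

/-- The flat dimension rises by at most the relative dimension along a smooth algebra. -/
theorem hasTorDimLE_of_smooth [Algebra.Smooth A B] (n : ℕ)
    (hn : ∀ p : PrimeSpectrum B, Module.rankAtStalk (Ω[B⁄A]) p = n) {m : ℕ} {M : Type u}
    [AddCommGroup M] [Module B M] [Module A M] [IsScalarTower A B M]
    (h : DRing.HasTorDimLE A m M) : DRing.HasTorDimLE B (m + n) M := by
  obtain ⟨s, hs, hsm⟩ := Algebra.Smooth.exists_span_eq_top_isStandardSmooth A B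
  refine hasTorDimLE_descent (fun f : s => Localization.Away f.1) (fun N _ _ hN => ?_) fun f => ?_
  · refine Module.flat_of_localized_span B N s hs fun f => ?_
    haveI := hN f
    haveI : Module.Flat B (Localization.Away f.1 ⊗[B] N) :=
      Module.Flat.trans B (Localization.Away f.1) _
    exact Module.Flat.of_linearEquiv ((IsLocalizedModule.isBaseChange (Submonoid.powers f.1)
      (Localization.Away f.1) (LocalizedModule.mkLinearMap (Submonoid.powers f.1) N)).equiv.restrictScalars B).symm
  · haveI := hsm f f.2
    rcases subsingleton_or_nontrivial (Localization.Away f.1) with hsub | hnt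
    · haveI : Module.Flat (Localization.Away f.1) (Localization.Away f.1 ⊗[B] M) := by
        haveI : Subsingleton (Localization.Away f.1 ⊗[B] M) :=
          Module.subsingleton (Localization.Away f.1) _
        infer_instance
      exact hasTorDimLE_of_flat _ _
    · haveI := isStandardSmoothOfRelativeDimension_away (A := A) n hn f.1
      haveI : IsScalarTower A (Localization.Away f.1) (Localization.Away f.1 ⊗[B] M) :=
        inferInstance
      exact hasTorDimLE_of_standardSmooth n (hasTorDimLE_tensor_flat (Localization.Away f.1) h)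

end Groth.Agent.H8Props.TorHyp
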