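import Groth.Agent.H8Props.TorHyp.Periodic

/-!
# Periodicity and annihilation of `Tor` over a hypersurface in a smooth algebra
-/

set_option autoImplicit false
set_option linter.style.haveILetI false
set_option linter.unusedSectionVars false
universe u

open CategoryTheory CategoryTheory.Limits
open scoped TensorProduct

namespace Groth.Agent.H8Props.TorHyp

open PseudoCoh

variable {A B R : Type u} [CommRing A] [CommRing B] [CommRing R]
  [Algebra A B] [Algebra B R] [Algebra A R] [IsScalarTower A B R]
  (g : B) (hg : IsSMulRegular B g) (hsurj : Function.Surjective (algebraMap B R))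
  (hker : RingHom.ker (algebraMap B R) = Ideal.span {g})
  (M : ModuleCat.{u} R) (N : ModuleCat.{u} R)

include hg hker in
theorem eq_zero_or_reduction [Algebra.Smooth A B] (n : ℕ)
    (hn : ∀ p : PrimeSpectrum B, Module.rankAtStalk (Ω[B⁄A]) p = n) (m : ℕ)
    (hM : ∀ (P : ModuleCat.{u} A) (i : ℕ), m < i →
      IsZero (((Tor (ModuleCat.{u} A) i).obj ((ModuleCat.restrictScalars (algebraMap A R)).obj M)).obj P))
    (hsurj : Function.Surjective (algebraMap B R)) :
    Subsingleton M ∨ ∃ e : ℕ, e + 1 = m + n ∧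
      ∃ (K : Type u) (_ : AddCommGroup K) (_ : Module B K) (_ : Module R K) (_ : IsScalarTower B R K),
        DRing.HasTorDimLE B 1 K ∧ ∀ (N : ModuleCat.{u} R) (q : ℕ), 1 ≤ q →
          Nonempty (T (q + e) M N ≅ T q (ModuleCat.of R K) N) := by
  letI : Module A M := Module.compHom M (algebraMap A R)
  letI : Module B M := Module.compHom M (algebraMap B R)
  haveI : IsScalarTower B R M := IsScalarTower.of_algebraMap_smul fun _ _ => rfl
  haveI : IsScalarTower A B M := IsScalarTower.of_algebraMap_smul fun a x => by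
    show algebraMap B R (algebraMap A B a) • x = algebraMap A R a • x
    rw [← IsScalarTower.algebraMap_apply]
  have hA : DRing.HasTorDimLE A m M := hasTorDimLE_iff_isZero.mpr fun P i hi => hM P i hi
  have hB : DRing.HasTorDimLE B (m + n) M := hasTorDimLE_of_smooth n hn hA
  rcases Nat.eq_zero_or_pos (m + n) with h0 | h0
  · left
    rw [h0] at hB
    haveI := hasTorDimLE_zero_iff.mp hB
    refine subsingleton_of_forall_eq 0 fun x => ?_
    have h1 := Module.Flat.rTensor_preserves_injective_linearMap (M := M)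
      (LinearMap.lsmul B B g) hg
    have h2 : (LinearMap.lsmul B B g).rTensor M ((1 : B) ⊗ₜ[B] (x : M)) = 0 := by
      rw [LinearMap.rTensor_tmul, show LinearMap.lsmul B B g 1 = g • (1 : B) from rfl,
        TensorProduct.smul_tmul, smul_g_eq_zero (B := B) (R := R) g hker M x, TensorProduct.tmul_zero]
    have h3 := congrArg (TensorProduct.lid B M) (h1 (h2.trans (map_zero _).symm))
    simpa using h3
  · right
    obtain ⟨e, he⟩ := Nat.exists_eq_add_of_le' h0
    rw [he] at hB
    exact ⟨e, he.symm, exists_reduction hsurj g hg hker e M hB⟩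

include hg hsurj hker in
theorem nonempty_tor_iso [Algebra.Smooth A B] (n : ℕ)
    (hn : ∀ p : PrimeSpectrum B, Module.rankAtStalk (Ω[B⁄A]) p = n) (m : ℕ)
    (hM : ∀ (P : ModuleCat.{u} A) (i : ℕ), m < i →
      IsZero (((Tor (ModuleCat.{u} A) i).obj ((ModuleCat.restrictScalars (algebraMap A R)).obj M)).obj P))
    (q : ℕ) (hq : m + n + 2 ≤ q) :
    Nonempty (T q M N ≅ T (q - 2) M N) := by
  rcases eq_zero_or_reduction g hg hker M n hn m hM hsurj with h | ⟨e, he, K, i₁, i₂, i₃, i₄, hK, hiso⟩
  · exact ⟨(isZero_T_of_subsingleton M N q).iso (isZero_T_of_subsingleton M N (q - 2))⟩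
  · obtain ⟨a⟩ := hiso N (q - e) (by omega)
    obtain ⟨b⟩ := hiso N (q - 2 - e) (by omega)
    obtain ⟨c⟩ := periodic hsurj g hg hker K hK N (q - 2 - e) (by omega)
    rw [show q - e + e = q by omega] at a
    rw [show q - 2 - e + e = q - 2 by omega] at b
    rw [show q - 2 - e + 2 = q - e by omega] at c
    exact ⟨a ≪≫ c ≪≫ b.symm⟩

include hg hsurj hker in
theorem smul_eq_zero_of_smooth [Algebra.Smooth A B] (n : ℕ)
    (hn : ∀ p : PrimeSpectrum B, Module.rankAtStalk (Ω[B⁄A]) p = n) (m : ℕ)
    (hM : ∀ (P : ModuleCat.{u} A) (i : ℕ), m < i →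
      IsZero (((Tor (ModuleCat.{u} A) i).obj ((ModuleCat.restrictScalars (algebraMap A R)).obj M)).obj P))
    (q : ℕ) (hq : m + n ≤ q) (φ : Ω[B⁄A] →ₗ[B] B) (t : T q M N) :
    algebraMap B R (φ (KaehlerDifferential.D A B g)) • t = 0 := by
  rcases eq_zero_or_reduction g hg hker M n hn m hM hsurj with h | ⟨e, he, K, i₁, i₂, i₃, i₄, hK, hiso⟩
  · haveI : Subsingleton (T q M N) :=
      ModuleCat.subsingleton_of_isZero (isZero_T_of_subsingleton M N q)
    exact Subsingleton.elim _ _
  · obtain ⟨a⟩ := hiso N (q - e) (by omega)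
    rw [show q - e + e = q by omega] at a
    apply a.toLinearEquiv.injective
    rw [map_smul, map_zero]
    exact smul_tor_eq_zero hsurj g hker K hK (φ.compDer (KaehlerDifferential.D A B)) N (q - e)
      (by omega) (a.toLinearEquiv t)

end Groth.Agent.H8Props.TorHyp
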