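import Groth.Agent.H8Props.TorHyp.FlatDim
import Mathlib.RingTheory.Derivation.Basic
import Mathlib.Algebra.Homology.ShortComplex.Linear
import Mathlib.Algebra.Category.ModuleCat.Monoidal.Closed

/-!
# Two-periodicity of `Tor` over a hypersurface
-/

set_option autoImplicit false
set_option linter.style.haveILetI false
set_option linter.unusedSectionVars false
set_option linter.dupNamespace false
universe u

open CategoryTheory CategoryTheory.Limits MonoidalCategory
open scoped TensorProduct

namespace Groth.Agent.H8Props.TorHyp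

open PseudoCoh

section Tor

variable {R : Type u} [CommRing R]

/-- The module `Tor_q(M, N)`. -/
noncomputable abbrev T (q : ℕ) (M N : ModuleCat.{u} R) : ModuleCat.{u} R :=
  ((Tor (ModuleCat.{u} R) q).obj M).obj N

theorem tor_map_smul (M N : ModuleCat.{u} R) (x : R) (n : ℕ) :
    ((Tor (ModuleCat.{u} R) n).map (x • 𝟙 M)).app N = x • 𝟙 (T n M N) := by
  obtain ⟨P⟩ : Nonempty (ProjectiveResolution N) := HasProjectiveResolution.out
  show (NatTrans.leftDerived ((tensoringLeft (ModuleCat.{u} R)).map (x • 𝟙 M)) n).app N = _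
  rw [P.leftDerived_app_eq]
  have hsm : (NatTrans.mapHomologicalComplex ((tensoringLeft (ModuleCat.{u} R)).map (x • 𝟙 M))
      (ComplexShape.down ℕ)).app P.complex = x • 𝟙 _ := by
    ext i : 1
    show (x • 𝟙 M) ▷ P.complex.X i = x • 𝟙 _
    rw [MonoidalLinear.smul_whiskerRight, MonoidalCategory.id_whiskerRight]
    rfl
  have hh : ∀ C : ChainComplex (ModuleCat.{u} R) ℕ,
      HomologicalComplex.homologyMap (x • 𝟙 C) n = x • 𝟙 _ := fun C => by
    show ShortComplex.homologyMap _ = _
    rw [show (HomologicalComplex.shortComplexFunctor _ _ n).map (x • 𝟙 C) = x • 𝟙 (C.sc n) from rfl,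
      ShortComplex.homologyMap_smul, ShortComplex.homologyMap_id]
    rfl
  rw [hsm]
  show _ ≫ HomologicalComplex.homologyMap _ n ≫ _ = _
  rw [hh]
  refine (congrArg (_ ≫ ·) (Linear.smul_comp _ _ _ _ _ _)).trans ?_
  refine (Linear.comp_smul _ _ _ _ _ _).trans ?_
  refine congrArg (x • ·) ?_
  exact (congrArg (_ ≫ ·) (Category.id_comp _)).trans (Iso.hom_inv_id _)

theorem isZero_T_of_subsingleton (M N : ModuleCat.{u} R) [Subsingleton M] (q : ℕ) :
    IsZero (T q M N) := by
  rw [IsZero.iff_id_eq_zero]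
  have h := tor_map_smul M N 0 q
  rw [zero_smul, zero_smul] at h
  rw [show (0 : M ⟶ M) = 𝟙 M from ModuleCat.hom_ext (LinearMap.ext fun m => Subsingleton.elim _ _),
    CategoryTheory.Functor.map_id, NatTrans.id_app] at h
  exact h

theorem nonempty_shift (S : ShortComplex (ModuleCat.{u} R)) (hS : S.ShortExact)
    [Module.Flat R S.X₂] (N : ModuleCat.{u} R) (q : ℕ) (hq : 1 ≤ q) :
    Nonempty (T (q + 1) S.X₃ N ≅ T q S.X₁ N) := by
  obtain ⟨i, rfl⟩ := Nat.exists_eq_add_of_le' hq
  obtain ⟨-, -, δ, w₁, w₂, ex₁, ex₂⟩ := H3CAlg.Tor.les₁ N S hS (i + 1)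
  haveI : Mono δ := ex₁.mono_g ((H1CAlg.isZero_Tor_of_flat S.X₂ N (i + 1)).eq_of_src _ _)
  haveI : Epi δ := ex₂.epi_f ((H1CAlg.isZero_Tor_of_flat S.X₂ N i).eq_of_tgt _ _)
  haveI : IsIso δ := isIso_of_mono_of_epi δ
  exact ⟨asIso δ⟩

theorem smul_T_eq_zero {M F : ModuleCat.{u} R} [Module.Flat R F] (x : R) (a : M ⟶ F) (b : F ⟶ M)
    (h : a ≫ b = x • 𝟙 M) (N : ModuleCat.{u} R) (q : ℕ) (hq : 1 ≤ q) (t : T q M N) : x • t = 0 := by
  obtain ⟨i, rfl⟩ := Nat.exists_eq_add_of_le' hq
  have h0 : x • 𝟙 (T (i + 1) M N) = 0 := by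
    rw [← tor_map_smul, ← h, CategoryTheory.Functor.map_comp, NatTrans.comp_app,
      (H1CAlg.isZero_Tor_of_flat F N i).eq_of_tgt (((Tor (ModuleCat.{u} R) (i + 1)).map a).app N) 0,
      zero_comp]
  exact LinearMap.congr_fun (congrArg ModuleCat.Hom.hom h0) t

end Tor

variable {B R : Type u} [CommRing B] [CommRing R] [Algebra B R]
  (hsurj : Function.Surjective (algebraMap B R)) (g : B) (hg : IsSMulRegular B g)
  (hker : RingHom.ker (algebraMap B R) = Ideal.span {g})

include hker in
theorem algebraMap_g : algebraMap B R g = 0 :=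
  RingHom.mem_ker.1 (hker ▸ Ideal.mem_span_singleton_self g)

include hsurj hker in
theorem exact_mk_one (M : Type u) [AddCommGroup M] [Module B M] :
    Function.Exact (LinearMap.lsmul B M g) (TensorProduct.mk B R M 1) := by
  have h : Function.Exact (LinearMap.lsmul B B g) (Algebra.linearMap B R) := fun b => by
    constructor
    · intro hb
      have hb' : b ∈ RingHom.ker (algebraMap B R) := hb
      rw [hker, Ideal.mem_span_singleton'] at hb'
      obtain ⟨c, rfl⟩ := hb'
      exact ⟨c, by simp [mul_comm]⟩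
    · rintro ⟨c, rfl⟩
      show algebraMap B R (g • c) = 0
      rw [smul_eq_mul, map_mul, algebraMap_g g hker, zero_mul]
  have h' := rTensor_exact M h hsurj
  intro z
  have e1 : ∀ x : M, TensorProduct.mk B R M 1 x = (Algebra.linearMap B R).rTensor M ((1 : B) ⊗ₜ x) :=
    fun x => by simp
  rw [e1, h']
  constructor
  · rintro ⟨w, hw⟩
    refine ⟨TensorProduct.lid B M w, ?_⟩
    have := congrArg (TensorProduct.lid B M) hw
    rw [TensorProduct.lid_tmul, one_smul] at this
    rw [← this]
    clear this hw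
    induction w with
    | zero => simp
    | tmul b x => simp [smul_smul, mul_comm]
    | add x y hx hy => simp only [map_add, hx, hy]
  · rintro ⟨x, rfl⟩
    exact ⟨(1 : B) ⊗ₜ x, (LinearMap.rTensor_tmul _ _ _ _).trans (TensorProduct.smul_tmul g 1 x)⟩

include hsurj hg hker in
theorem hasTorDimLE_quotRing : DRing.HasTorDimLE B 1 R :=
  hasTorDimLE_quot (i := LinearMap.lsmul B B g) (p := Algebra.linearMap B R) hg hsurj
    (fun b => by
      constructor
      · intro hb
        have hb' : b ∈ RingHom.ker (algebraMap B R) := hb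
        rw [hker, Ideal.mem_span_singleton'] at hb'
        obtain ⟨c, rfl⟩ := hb'
        exact ⟨c, by simp [mul_comm]⟩
      · rintro ⟨c, rfl⟩
        show algebraMap B R (g • c) = 0
        rw [smul_eq_mul, map_mul, algebraMap_g g hker, zero_mul])
    (hasTorDimLE_of_flat 1 B) (hasTorDimLE_of_flat 0 B)

include hsurj hg hker in
/-- Reduction to flat dimension one by syzygies. -/
theorem exists_reduction : ∀ (e : ℕ) (M : Type u) [AddCommGroup M] [Module B M] [Module R M]
    [IsScalarTower B R M], DRing.HasTorDimLE B (e + 1) M →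
      ∃ (K : Type u) (_ : AddCommGroup K) (_ : Module B K) (_ : Module R K) (_ : IsScalarTower B R K),
        DRing.HasTorDimLE B 1 K ∧ ∀ (N : ModuleCat.{u} R) (q : ℕ), 1 ≤ q →
          Nonempty (T (q + e) (ModuleCat.of R M) N ≅ T q (ModuleCat.of R K) N)
  | 0, M, _, _, _, _, h => ⟨M, _, _, _, inferInstance, h, fun N q _ => ⟨Iso.refl _⟩⟩
  | e + 1, M, _, _, _, _, h => by
    let f := Finsupp.linearCombination R (id : M → M)
    have hf : Function.Surjective f := exists_free_surjective M
    have hF : DRing.HasTorDimLE B (e + 1) (M →₀ R) :=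
      hasTorDimLE_mono (Nat.le_add_left 1 e)
        (hasTorDimLE_of_flat_algebra (hasTorDimLE_quotRing hsurj g hg hker) (M →₀ R))
    have hK : DRing.HasTorDimLE B (e + 1) (LinearMap.ker f) :=
      hasTorDimLE_sub (i := (LinearMap.ker f).subtype.restrictScalars B) (p := f.restrictScalars B)
        Subtype.val_injective hf (LinearMap.exact_subtype_ker_map f) hF h
    obtain ⟨K, i₁, i₂, i₃, i₄, hK1, hiso⟩ := exists_reduction e (LinearMap.ker f) hK
    refine ⟨K, i₁, i₂, i₃, i₄, hK1, fun N q hq => ?_⟩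
    obtain ⟨a⟩ := hiso N q hq
    have hex : Function.Exact (LinearMap.ker f).subtype f := LinearMap.exact_subtype_ker_map f
    obtain ⟨b⟩ := nonempty_shift (seq hex)
      (seq_shortExact (M' := LinearMap.ker f) (M := M →₀ R) (M'' := M) (i := (LinearMap.ker f).subtype) (p := f)
        (LinearMap.ker f).injective_subtype hf hex)
      (N := N) (q + e) (by omega)
    exact ⟨b ≪≫ a⟩

variable (K : Type u) [AddCommGroup K] [Module B K] [Module R K] [IsScalarTower B R K]

include hker in
theorem smul_g_eq_zero (x : K) : g • x = 0 := by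
  rw [← algebraMap_smul R g x, algebraMap_g g hker, zero_smul]

/-- The free module over `B` on the elements. -/
abbrev F₀ (B K : Type u) [CommRing B] := K →₀ B

/-- Its map to the module. -/
noncomputable abbrev f₀ : F₀ B K →ₗ[B] K := Finsupp.linearCombination B (id : K → K)

/-- Its kernel. -/
noncomputable abbrev F₁ (B K : Type u) [CommRing B] [AddCommGroup K] [Module B K] :=
  LinearMap.ker (Finsupp.linearCombination B (id : K → K))

/-- Multiplication by `g` into the kernel. -/
noncomputable def gMul (hker : RingHom.ker (algebraMap B R) = Ideal.span {g}) : F₀ B K →ₗ[B] F₁ B K :=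
  (LinearMap.lsmul B (F₀ B K) g).codRestrict _ fun y => by
    rw [LinearMap.mem_ker, LinearMap.lsmul_apply, map_smul, smul_g_eq_zero g hker]

theorem gMul_val (y : F₀ B K) : ((gMul g K hker y : F₁ B K) : F₀ B K) = g • y := rfl

include hsurj hker in
theorem exists_j :
    ∃ j : K →ₗ[R] R ⊗[B] F₁ B K, ∀ y : F₀ B K,
      j (f₀ K y) = (1 : R) ⊗ₜ[B] gMul g K hker y := by
  let φ : F₀ B K →ₗ[B] R ⊗[B] F₁ B K := (TensorProduct.mk B R (F₁ B K) 1) ∘ₗ gMul g K hker
  have hle : LinearMap.ker (f₀ (B := B) K) ≤ LinearMap.ker φ := by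
    intro y hy
    rw [LinearMap.mem_ker]
    refine (exact_mk_one hsurj g hker (F₁ B K) _).2 ⟨⟨y, hy⟩, ?_⟩
    exact Subtype.ext rfl
  let j₀ : K →ₗ[B] R ⊗[B] F₁ B K :=
    (Submodule.liftQ _ φ hle) ∘ₗ
      ((f₀ (B := B) K).quotKerEquivOfSurjective (exists_free_surjective K)).symm.toLinearMap
  refine ⟨{ j₀ with map_smul' := ?_ }, fun y => ?_⟩
  · intro r x
    obtain ⟨b, rfl⟩ := hsurj r
    rw [RingHom.id_apply, algebraMap_smul, algebraMap_smul]
    exact j₀.map_smul b x
  · show j₀ (f₀ K y) = _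
    have : ((f₀ (B := B) K).quotKerEquivOfSurjective (exists_free_surjective K)).symm (f₀ K y) =
        Submodule.Quotient.mk y := by
      rw [LinearEquiv.symm_apply_eq]
      rfl
    simp only [j₀, LinearMap.comp_apply, LinearEquiv.coe_coe, this]
    rfl

include hsurj hg hker in
/-- The periodic sequence of a module of flat dimension one. -/
theorem periodic (hK : DRing.HasTorDimLE B 1 K) (N : ModuleCat.{u} R) (q : ℕ) (hq : 1 ≤ q) :
    Nonempty (T (q + 2) (ModuleCat.of R K) N ≅ T q (ModuleCat.of R K) N) := by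
  haveI : Module.Flat B (F₁ B K) :=
    hasTorDimLE_zero_iff.mp ((hasTorDimLE_succ_iff (f₀ K) (exists_free_surjective K)).mp hK)
  obtain ⟨j, hj⟩ := exists_j hsurj g hker K
  let fb : R ⊗[B] F₀ B K →ₗ[R] K := (f₀ K).liftBaseChange R
  have hfb : Function.Surjective fb := fun x => by
    obtain ⟨y, hy⟩ := exists_free_surjective (A := B) K x
    exact ⟨1 ⊗ₜ y, by rw [LinearMap.liftBaseChange_one_tmul]; exact hy⟩
  let ρ : R ⊗[B] F₁ B K →ₗ[R] LinearMap.ker fb :=
    ((F₁ B K).subtype.baseChange R).codRestrict _ fun z => by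
      rw [LinearMap.mem_ker]
      induction z with
      | zero => simp
      | tmul r y =>
        show fb (r ⊗ₜ (y : F₀ B K)) = 0
        rw [LinearMap.liftBaseChange_tmul, show f₀ K (y : F₀ B K) = 0 from y.2, smul_zero]
      | add a b ha hb => rw [map_add, map_add, ha, hb, add_zero]
  have hone : ∀ (M : Type u) [AddCommMonoid M] [Module B M] (z : R ⊗[B] M),
      ∃ x : M, z = (1 : R) ⊗ₜ x := by
    intro M _ _ z
    induction z with
    | zero => exact ⟨0, (TensorProduct.tmul_zero _ _).symm⟩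
    | tmul r x =>
      obtain ⟨b, rfl⟩ := hsurj r
      exact ⟨b • x, by rw [← TensorProduct.smul_tmul, Algebra.smul_def, mul_one]⟩
    | add a b ha hb =>
      obtain ⟨x, rfl⟩ := ha
      obtain ⟨y, rfl⟩ := hb
      exact ⟨x + y, (TensorProduct.tmul_add _ _ _).symm⟩
  have hρ : Function.Surjective ρ := by
    rintro ⟨w, hw⟩
    obtain ⟨y, rfl⟩ := hone _ w
    rw [LinearMap.mem_ker, LinearMap.liftBaseChange_one_tmul] at hw
    exact ⟨1 ⊗ₜ ⟨y, hw⟩, Subtype.ext rfl⟩
  have hjinj : Function.Injective j := by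
    rw [injective_iff_map_eq_zero]
    intro x hx
    obtain ⟨y, rfl⟩ := exists_free_surjective (A := B) K x
    change j (f₀ K y) = 0 at hx
    rw [hj] at hx
    obtain ⟨z, hz⟩ := (exact_mk_one hsurj g hker (F₁ B K) _).1 hx
    have h2 : g • (z : F₀ B K) = g • y := congrArg Subtype.val hz
    have h3 : (z : F₀ B K) = y := Finsupp.ext fun k => hg (Finsupp.ext_iff.1 h2 k)
    show f₀ K y = 0
    rw [← h3]
    exact z.2
  have hex : Function.Exact j ρ := by
    intro w
    obtain ⟨y, rfl⟩ := hone _ w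
    constructor
    · intro hw
      have h1 : (1 : R) ⊗ₜ[B] (y : F₀ B K) = 0 := congrArg Subtype.val hw
      obtain ⟨z, hz⟩ := (exact_mk_one hsurj g hker (F₀ B K) _).1 h1
      refine ⟨f₀ K z, ?_⟩
      rw [hj]
      congr 1
      exact Subtype.ext hz
    · rintro ⟨x, hx⟩
      obtain ⟨z, rfl⟩ := exists_free_surjective (A := B) K x
      change j (f₀ K z) = _ at hx
      rw [hj] at hx
      rw [← hx]
      refine Subtype.ext ?_
      show (1 : R) ⊗ₜ[B] (g • z) = 0
      exact (exact_mk_one hsurj g hker (F₀ B K) _).2 ⟨z, rfl⟩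
  have hexb : Function.Exact (LinearMap.ker fb).subtype fb := LinearMap.exact_subtype_ker_map fb
  obtain ⟨a⟩ := nonempty_shift (seq hexb)
    (seq_shortExact (M' := LinearMap.ker fb) (M := R ⊗[B] F₀ B K) (M'' := K) (i := (LinearMap.ker fb).subtype)
      (p := fb) (LinearMap.ker fb).injective_subtype hfb hexb)
    N (q + 1) (by omega)
  obtain ⟨b⟩ := nonempty_shift (seq hex) (seq_shortExact (M'' := LinearMap.ker fb) (i := j) (p := ρ) hjinj hρ hex) N q hq
  exact ⟨a ≪≫ b⟩

variable {A : Type u} [CommRing A] [Algebra A B]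

include hsurj hker in
/-- Derivatives of the equation kill `Tor`. -/
theorem smul_tor_eq_zero (hK : DRing.HasTorDimLE B 1 K) (D : Derivation A B B)
    (N : ModuleCat.{u} R) (q : ℕ) (hq : 1 ≤ q) (t : T q (ModuleCat.of R K) N) :
    algebraMap B R (D g) • t = 0 := by
  haveI : Module.Flat B (F₁ B K) :=
    hasTorDimLE_zero_iff.mp ((hasTorDimLE_succ_iff (f₀ K) (exists_free_surjective K)).mp hK)
  obtain ⟨j, hj⟩ := exists_j hsurj g hker K
  let Dc : F₀ B K →+ F₀ B K := Finsupp.mapRange.addMonoidHom D.toLinearMap.toAddMonoidHom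
  have hDc : ∀ (b : B) (y : F₀ B K), Dc (b • y) = b • Dc y + D b • y := by
    intro b y
    ext k
    simp [Dc, mul_comm]
  let h₀ : F₁ B K →ₗ[B] K :=
    { toFun := fun y => f₀ K (Dc y)
      map_add' := fun y y' => by rw [Submodule.coe_add, map_add, map_add]
      map_smul' := fun b y => by
        rw [Submodule.coe_smul, hDc, map_add, map_smul, map_smul,
          show f₀ K (y : F₀ B K) = 0 from y.2, smul_zero, add_zero, RingHom.id_apply] }
  let h : R ⊗[B] F₁ B K →ₗ[R] K := h₀.liftBaseChange R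
  have hfac : ∀ x, h (j x) = algebraMap B R (D g) • x := by
    intro x
    obtain ⟨y, rfl⟩ := exists_free_surjective (A := B) K x
    show h (j (f₀ K y)) = _ • f₀ K y
    rw [hj, LinearMap.liftBaseChange_one_tmul]
    show f₀ K (Dc (g • y)) = _
    rw [hDc, map_add, map_smul, map_smul, smul_g_eq_zero g hker, zero_add, algebraMap_smul]
  refine smul_T_eq_zero _ (ModuleCat.ofHom j) (ModuleCat.ofHom h) ?_ N q hq t
  exact ModuleCat.hom_ext (LinearMap.ext hfac)

end Groth.Agent.H8Props.TorHyp
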